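/-
Sylow subgroups of prime order and element counts.
-/
import Cfsg.Agent.Lib.M11Det.Basic
import Cfsg.Agent.Lib.DegreeGraphSmall.Sections

set_option autoImplicit false
set_option linter.style.haveILetI false
set_option linter.unusedSectionVars false

namespace CfsgMathieuCounts

open Cfsg Subgroup

variable {G : Type*} [Group G] [Finite G] {p : ℕ} [hp : Fact p.Prime]

/-- A Sylow subgroup for a prime of multiplicity one has prime order. -/
theorem sylow_card (h1 : p ∣ Nat.card G) (h2 : ¬ p ^ 2 ∣ Nat.card G) (P : Sylow p G) :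
    Nat.card (P : Subgroup G) = p :=
  (CfsgLib.SmallOrder.card_sylow_eq (k := 1) P (by rwa [pow_one]) h2).trans (pow_one p)

theorem exists_sylow_eq (hP : ∀ P : Sylow p G, Nat.card (P : Subgroup G) = p) {b : G} (hb : orderOf b = p) :
    ∃ P : Sylow p G, zpowers b = (P : Subgroup G) := by
  obtain ⟨P, hQ⟩ := (IsPGroup.of_card (n := 1)
    (show Nat.card (zpowers b) = p ^ 1 by rw [Nat.card_zpowers, hb, pow_one])).exists_le_sylow
  exact ⟨P, eq_of_le_of_card_ge hQ (by rw [hP, Nat.card_zpowers, hb])⟩

theorem card_normalizer_mul (hP : ∀ P : Sylow p G, Nat.card (P : Subgroup G) = p) {b : G}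
    (hb : orderOf b = p) :
    Nat.card (normalizer ((zpowers b : Subgroup G) : Set G)) * Nat.card (Sylow p G) = Nat.card G := by
  obtain ⟨P, hPb⟩ := exists_sylow_eq hP hb
  rw [hPb]
  exact (congrArg _ P.card_eq_index_normalizer).trans (card_mul_index _)

theorem cent_le_normalizer (b : G) :
    centralizer ({b} : Set G) ≤ normalizer ((zpowers b : Subgroup G) : Set G) := fun x hx => by
  have hc : Commute x b := mem_centralizer_singleton_iff.mp hx
  refine mem_normalizer_iff.mpr fun y => ?_
  constructor
  · intro hy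
    obtain ⟨k, rfl⟩ := hy
    show x * b ^ k * x⁻¹ ∈ zpowers b
    rw [(hc.zpow_right k).eq, mul_inv_cancel_right]
    exact ⟨k, rfl⟩
  · intro hy
    obtain ⟨k, hk⟩ := hy
    refine ⟨k, ?_⟩
    simp only at hk ⊢
    calc b ^ k = x⁻¹ * (x * b ^ k) := by rw [inv_mul_cancel_left]
      _ = x⁻¹ * (b ^ k * x) := by rw [(hc.zpow_right k).eq]
      _ = y := by rw [hk]; group

/-- The centraliser of an element of a self-centralising Sylow subgroup of prime order. -/
theorem card_cent (hP : ∀ P : Sylow p G, Nat.card (P : Subgroup G) = p)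
    (hC : ∀ P : Sylow p G, centralizer ((P : Subgroup G) : Set G) = (P : Subgroup G))
    {b : G} (hb : orderOf b = p) : Nat.card (centralizer ({b} : Set G)) = p := by
  obtain ⟨P, hPb⟩ := exists_sylow_eq hP hb
  have h : centralizer ({b} : Set G) = centralizer ((zpowers b : Subgroup G) : Set G) := by
    refine le_antisymm (fun x hx => mem_centralizer_iff.mpr fun y hy => ?_)
      (centralizer_le (Set.singleton_subset_iff.mpr (mem_zpowers b)))
    obtain ⟨k, rfl⟩ := hy
    have hc : Commute x b := mem_centralizer_singleton_iff.mp hx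
    exact (hc.zpow_right k).eq.symm
  rw [h, hPb, hC, hP]

/-- An element which is neither trivial nor of order `p` commutes with no element of order `p`. -/
theorem not_dvd_cent (hcent : ∀ b : G, orderOf b = p → Nat.card (centralizer ({b} : Set G)) = p) {g : G}
    (h1 : orderOf g ≠ 1) (hne : orderOf g ≠ p) : ¬ p ∣ Nat.card (centralizer ({g} : Set G)) := fun h => by
  obtain ⟨y, hy⟩ := exists_prime_orderOf_dvd_card' p h
  have hy' : orderOf (y : G) = p := by rw [Subgroup.orderOf_coe, hy]
  have hd : orderOf g ∣ p := hcent _ hy' ▸ Subgroup.orderOf_dvd_natCard _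
    (mem_centralizer_singleton_iff.mpr (mem_centralizer_singleton_iff.mp y.2).symm)
  exact ((Nat.dvd_prime hp.out).mp hd).elim h1 hne

/-- A normal subgroup containing a Sylow subgroup contains all its conjugates. -/
theorem sylow_count_dvd (hP : ∀ P : Sylow p G, Nat.card (P : Subgroup G) = p) {N : Subgroup G} [N.Normal]
    (hN : p ∣ Nat.card N) : Nat.card (Sylow p G) ∣ Nat.card N := by
  obtain ⟨b, hb⟩ := exists_prime_orderOf_dvd_card' p hN
  have hb' : orderOf (b : G) = p := by rw [Subgroup.orderOf_coe, hb]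
  obtain ⟨P, hPb⟩ := exists_sylow_eq hP hb'
  obtain ⟨Q, hQ⟩ : ∃ Q : Sylow p N, (Q : Subgroup N).map N.subtype = (P : Subgroup G) := by
    obtain ⟨Q, hQ⟩ := (IsPGroup.of_card (n := 1)
      (show Nat.card (zpowers b) = p ^ 1 by rw [Nat.card_zpowers, hb, pow_one])).exists_le_sylow
    refine ⟨Q, (eq_of_le_of_card_ge ?_ ?_).symm⟩
    · rw [← hPb, zpowers_le]
      exact ⟨b, hQ (mem_zpowers b), rfl⟩
    · rw [Subgroup.card_subtype, hP]
      obtain ⟨i, hi⟩ := Q.2.exists_card_eq
      obtain ⟨R, hR⟩ := (Q.2.map N.subtype).exists_le_sylow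
      have := card_dvd_of_le hR
      rw [Subgroup.card_subtype, hP] at this
      exact Nat.le_of_dvd hp.out.pos this
  have hfr := Q.normalizer_sup_eq_top
  rw [hQ] at hfr
  have h3 : N.index ∣ Nat.card (normalizer ((P : Subgroup G) : Set G)) := by
    rw [← relIndex_top_right, ← hfr, relIndex_sup_right]
    exact relIndex_dvd_card _ _
  refine Nat.dvd_of_mul_dvd_mul_left (Nat.card_pos (α := normalizer ((P : Subgroup G) : Set G))) ?_
  rw [show Nat.card (Sylow p G) = (normalizer ((P : Subgroup G) : Set G)).index from P.card_eq_index_normalizer,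
    card_mul_index, ← N.card_mul_index, mul_comm (Nat.card (normalizer ((P : Subgroup G) : Set G)))]
  exact Nat.mul_dvd_mul_left _ h3

/-- A normal subgroup with no room for an element with self-centralising cyclic group is trivial. -/
theorem eq_bot_of_no_room (hsq : ¬ p ^ 2 ∣ Nat.card G) {b : G} (hb : orderOf b = p)
    (hcent : Nat.card (centralizer ({b} : Set G)) = p) {N : Subgroup G} [N.Normal]
    (hN : ¬ p ∣ Nat.card N)
    (hok : ∀ q i : ℕ, q.Prime → 1 ≤ i → q ^ i ∣ Nat.card N → ¬ p ∣ q ^ i - 1) : N = ⊥ := by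
  have h := CfsgLib.DegreeGraphSmall.centralizes_normal hb hsq hN hok
  have hle : N ≤ centralizer ({b} : Set G) := fun n hn =>
    mem_centralizer_singleton_iff.mpr (mem_centralizer_iff.mp h n hn)
  have hd := card_dvd_of_le hle
  rw [hcent] at hd
  exact eq_bot_of_card_eq _ (((Nat.dvd_prime hp.out).mp hd).resolve_right fun e => hN e.symm.dvd)

end CfsgMathieuCounts
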